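import Cfsg.Agent.KInf.Main

/-!
The K-infinity subgroups of an arbitrary subgroup containing `O_p(G)` are normal unless some element
acts quadratically and nontrivially on a chief factor inside `O_p(G)`.
-/

namespace Cfsg.Agent.KInfGen

open Subgroup Cfsg.Agent.KInf
open scoped commutatorElement

set_option linter.unusedSectionVars false

universe u

variable {G : Type u} [Group G] [Finite G] {p : ℕ} [hp : Fact p.Prime]

theorem kInf_normal_of_le {S : Subgroup G} (hTS : Cfsg.pCore p G ≤ S)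
    (hle : ∀ n, (Cfsg.kSeqEven S n).map S.subtype ≤ Cfsg.pCore p G ∧
      (Cfsg.kSeqOdd S (n + 1)).map S.subtype ≤ Cfsg.pCore p G) :
    (Cfsg.inducedFunctor Cfsg.kInfLower S).Normal ∧
      (Cfsg.inducedFunctor Cfsg.kInfUpper S).Normal := by
  set T := Cfsg.pCore p G
  have hrange : ∀ n, Cfsg.kSeqEven S n ≤ (inclusion hTS).range ∧
      Cfsg.kSeqOdd S (n + 1) ≤ (inclusion hTS).range := fun n => by
    refine ⟨fun x hx => ?_, fun x hx => ?_⟩
    · exact ⟨⟨x, (hle n).1 ⟨x, hx, rfl⟩⟩, rfl⟩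
    · exact ⟨⟨x, (hle n).2 ⟨x, hx, rfl⟩⟩, rfl⟩
  obtain ⟨h1, h2⟩ := map_kInf (inclusion_injective hTS) hrange
  have hchar : ∀ W : Subgroup T, (∀ φ : T ≃* T, W.map φ.toMonoidHom = W) →
      (W.map T.subtype).Normal := fun W hW => by
    have : W.Characteristic := characteristic_iff_map_eq.mpr hW
    exact ConjAct.normal_of_characteristic_of_normal
  simp only [Cfsg.inducedFunctor]
  refine ⟨?_, ?_⟩
  · rw [← h1, map_map, show S.subtype.comp (inclusion hTS) = T.subtype from rfl]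
    exact hchar _ fun φ => (map_kInf_equiv φ).1
  · rw [← h2, map_map, show S.subtype.comp (inclusion hTS) = T.subtype from rfl]
    exact hchar _ fun φ => (map_kInf_equiv φ).2

section key

variable (S : Subgroup G) (hTS : Cfsg.pCore p G ≤ S) (A Z : Subgroup G) [A.Normal] [Z.Normal] (hAT : A ≤ Cfsg.pCore p G)
  (hZdef : Z = A ⊓ centralizer (A : Set G)) (hTA : ⁅Cfsg.pCore p G, A⁆ ≤ Z)

include hTS hAT hZdef hTA in
theorem exists_cubic
    (hK : ¬ (Cfsg.inducedFunctor Cfsg.kInfLower S).Normal ∨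
      ¬ (Cfsg.inducedFunctor Cfsg.kInfUpper S).Normal) :
    ∃ g ∈ S, g ∉ Cfsg.pCore p G ∧ Cfsg.iterCommutator A (zpowers g) 3 ≤ Z ∧
      ⁅⁅Z, zpowers g⁆, zpowers g⁆ = ⊥ ∧
      ((∃ U V, Cfsg.IsChiefFactor U V ∧ U ≤ Z ∧ ¬ TrivOn g U V) ∨
        ∀ U V, Cfsg.IsChiefFactor U V → Z ≤ V → U ≤ A → Cfsg.iterCommutator U (zpowers g) 2 ≤ V) := by
  set T := Cfsg.pCore p G with hTdef
  set P := S with hPdef
  have hTP : T ≤ P := hTS
  have hAP : A ≤ P := hAT.trans hTP
  have hZA : Z ≤ A := hZdef.le.trans inf_le_left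
  have hZC : Z ≤ centralizer (A : Set G) := hZdef.le.trans inf_le_right
  have hAA : ⁅A, A⁆ ≤ Z := (commutator_mono hAT le_rfl).trans hTA
  have hZZ : ⁅Z, A⁆ = ⊥ := commutator_eq_bot_iff_le_centralizer.mpr hZC
  -- finish from quadratic action on `A`
  have hquad : ∀ g : G, Cfsg.iterCommutator A (zpowers g) 2 ≤ Z →
      Cfsg.iterCommutator A (zpowers g) 3 ≤ Z ∧ ∀ U V : Subgroup G, Cfsg.IsChiefFactor U V →
        Z ≤ V → U ≤ A → Cfsg.iterCommutator U (zpowers g) 2 ≤ V := fun g h =>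
    ⟨(iter_anti A _ (by norm_num : 2 ≤ 3)).trans h,
      fun U V _ hZV hUA => (iter_mono hUA _ 2).trans (h.trans hZV)⟩
  set A' := A.subgroupOf P with hA'
  set Z' := Z.subgroupOf P with hZ'
  have hA'n : A'.Normal := inferInstance
  have hZ'n : Z'.Normal := inferInstance
  have hA'map : A'.map P.subtype = A := map_subgroupOf_eq_of_le hAP
  have hZ'map : Z'.map P.subtype = Z := map_subgroupOf_eq_of_le (hZA.trans hAP)
  have hsub : Function.Injective P.subtype := P.subtype_injective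
  have hZ'eq : Z' = A' ⊓ centralizer (A' : Set P) := map_injective hsub (by
    rw [map_center_part hsub, hA'map, hZ'map]; exact hZdef)
  have hZ'comm : IsMulCommutative Z' := by
    rw [← le_centralizer_iff_isMulCommutative, hZ'eq]
    exact inf_le_right.trans (centralizer_le (SetLike.coe_subset_coe.mpr inf_le_left))
  have hA'2 : A' ∈ Cfsg.classTwoSubgroups P := by
    rw [← map_classTwo hsub, hA'map]
    exact hAA.trans hZC
  by_cases hAlow : A' ∈ Cfsg.kLowerStarFamily (⊤ : Subgroup P)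
  swap
  · -- (i) a test subgroup for `A` leaves `T`
    obtain ⟨A₀, hA₀2, hA₀N, hA₀1, hA₀Z, hA₀n⟩ : ∃ A₀ ∈ Cfsg.classTwoSubgroups P,
        A' ≤ normalizer (A₀ : Set P) ∧ ⁅A', ⁅A₀, A₀⁆⁆ = ⊥ ∧ ⁅⁅Z', A₀⁆, A₀⁆ = ⊥ ∧
          ¬ ⁅A', A₀⁆ ≤ Z' := by
      by_contra hcon
      push Not at hcon
      refine hAlow ⟨hA'2, ?_, fun A₀ h1 _ h3 h4 h5 => ?_⟩
      · rw [normalizer_eq_top_iff.mpr hA'n]
      · rw [← hZ'eq] at h5 ⊢
        exact hcon A₀ h1 h3 h4 h5
    set B := A₀.map P.subtype with hBdef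
    obtain ⟨g, hgB, hgT⟩ : ∃ g ∈ B, g ∉ T := by
      by_contra hcon
      push Not at hcon
      refine hA₀n ((map_le_map_iff_of_injective hsub).mp ?_)
      rw [map_commutator, hA'map, hZ'map, Subgroup.commutator_comm]
      exact (commutator_mono hcon le_rfl).trans hTA
    have hAN : A ≤ normalizer (B : Set G) := by
      rw [← hA'map]; exact (map_le_normalizer_map_iff hsub).mpr hA₀N
    have hgle : zpowers g ≤ B := zpowers_le.mpr hgB
    have hAB : ⁅A, B⁆ ≤ A ⊓ B := le_inf (commutator_le_left A B)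
      (commutator_le.mpr fun a ha b hb => by
        rw [commutatorElement_def]
        exact mul_mem ((mem_normalizer_iff.mp (hAN ha) b).mp hb) (inv_mem hb))
    have hq : Cfsg.iterCommutator A (zpowers g) 2 ≤ Z := by
      change ⁅⁅A, zpowers g⁆, zpowers g⁆ ≤ Z
      refine (commutator_mono (commutator_mono le_rfl hgle) hgle).trans (hZdef ▸ le_inf ?_ ?_)
      · exact (commutator_mono (commutator_le_left A B) le_rfl).trans (commutator_le_left A B)
      · refine le_trans (commutator_mono (hAB.trans inf_le_right) le_rfl) ?_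
        rw [← commutator_eq_bot_iff_le_centralizer, Subgroup.commutator_comm, ← hA'map,
          ← map_commutator, ← map_commutator, hA₀1, Subgroup.map_bot]
    refine ⟨g, (map_subtype_le A₀) hgB, hgT, (hquad g hq).1, le_bot_iff.mp ?_, Or.inr (hquad g hq).2⟩
    refine (commutator_mono (commutator_mono le_rfl hgle) hgle).trans ?_
    rw [← hZ'map, ← map_commutator, ← map_commutator, hA₀Z, Subgroup.map_bot]
  have hAE : ∀ n, A' ≤ Cfsg.kSeqEven P n := fun n =>
    le_sSup (Techniques.kLowerStarFamily_anti le_top hAlow)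
  by_cases hodd : ∃ n, ¬ (Cfsg.kSeqOdd P (n + 1)).map P.subtype ≤ T
  · -- (ii) a member of an upper-star family leaves `T`
    obtain ⟨n, hn⟩ := hodd
    obtain ⟨B, hB, hBT⟩ : ∃ B ∈ Cfsg.kUpperStarFamily (Cfsg.kSeqEven P n),
        ¬ B.map P.subtype ≤ T := by
      by_contra hcon
      push Not at hcon
      refine hn ?_
      rw [Techniques.kSeqOdd_succ, sSup_eq_iSup', Subgroup.map_iSup]
      exact iSup_le fun B => hcon B B.2
    obtain ⟨g, hgB, hgT⟩ := SetLike.not_le_iff_exists.mp hBT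
    have hgle : zpowers g ≤ B.map P.subtype := zpowers_le.mpr hgB
    have hq : ⁅⁅A, zpowers g⁆, zpowers g⁆ = ⊥ := by
      refine le_bot_iff.mp ((commutator_mono (commutator_mono le_rfl hgle) hgle).trans ?_)
      rw [← hA'map, ← map_commutator, ← map_commutator]
      refine (map_mono ?_).trans (Subgroup.map_bot _).le
      rw [le_bot_iff, commutator_eq_bot_iff_le_centralizer, Subgroup.commutator_comm]
      exact ((commutator_mono le_rfl (hAE n)).trans hB.2).trans inf_le_right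
    have hq2 : Cfsg.iterCommutator A (zpowers g) 2 ≤ Z := hq.le.trans bot_le
    exact ⟨g, (map_subtype_le B) hgB, hgT, (hquad g hq2).1,
      le_bot_iff.mp ((commutator_mono (commutator_mono hZA le_rfl) le_rfl).trans hq.le),
      Or.inr (hquad g hq2).2⟩
  push Not at hodd
  -- (iii) a member of a lower-star family leaves `T`
  have heven : ∃ n, ¬ (Cfsg.kSeqEven P n).map P.subtype ≤ T := by
    by_contra hcon
    push Not at hcon
    obtain ⟨h1, h2⟩ := kInf_normal_of_le (S := S) hTS fun n => ⟨hcon n, hodd n⟩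
    rcases hK with h | h
    · exact h h1
    · exact h h2
  classical
  set n := Nat.find heven
  have hn : ¬ (Cfsg.kSeqEven P n).map P.subtype ≤ T := Nat.find_spec heven
  have hAO : A' ≤ Cfsg.kSeqOdd P n := by
    rcases Nat.eq_zero_or_pos n with h0 | h0
    · rw [h0]; exact le_top
    obtain ⟨m, hm⟩ := Nat.exists_eq_succ_of_ne_zero h0.ne'
    rw [hm]
    refine le_sSup (show A' ∈ Cfsg.kUpperStarFamily (Cfsg.kSeqEven P m) from ⟨hA'2, ?_⟩)
    have hEm : (Cfsg.kSeqEven P m).map P.subtype ≤ T :=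
      not_not.mp (Nat.find_min heven (show m < n by omega))
    rw [← hZ'eq, ← map_le_map_iff_of_injective hsub, map_commutator, hA'map, hZ'map,
      Subgroup.commutator_comm]
    exact (commutator_mono hEm le_rfl).trans hTA
  obtain ⟨B, hB, hBT⟩ : ∃ B ∈ Cfsg.kLowerStarFamily (Cfsg.kSeqOdd P n), ¬ B.map P.subtype ≤ T := by
    by_contra hcon
    push Not at hcon
    refine hn ?_
    rw [Techniques.kSeqEven_eq, sSup_eq_iSup', Subgroup.map_iSup]
    exact iSup_le fun B => hcon B B.2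
  set B₀ := B.map P.subtype with hB₀
  have hAB : ⁅A, B₀⁆ ≤ B₀ := by
    rw [← hA'map, hB₀, ← map_commutator]
    refine map_mono (commutator_le.mpr fun a ha b hb => ?_)
    rw [commutatorElement_def]
    exact mul_mem ((mem_normalizer_iff.mp (hB.2.1 (hAO ha)) b).mp hb) (inv_mem hb)
  have hB2 : ⁅B₀, B₀⁆ ≤ centralizer (B₀ : Set G) := (map_classTwo hsub).mpr hB.1
  have hmapC : (B ⊓ centralizer (B : Set P)).map P.subtype = B₀ ⊓ centralizer (B₀ : Set G) :=
    map_center_part hsub B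
  have hZtest : ⁅B, Z'⁆ ≤ B ⊓ centralizer (B : Set P) :=
    hB.2.2 Z' (abelian_mem_classTwo hZ'comm) ((show Z' ≤ A' from hZ'eq.le.trans inf_le_left).trans hAO)
      (by rw [normalizer_eq_top_iff.mpr hZ'n]; exact le_top)
      (by rw [commutator_self_eq_bot hZ'comm, Subgroup.commutator_bot_right])
      (le_bot_iff.mp ((commutator_mono (commutator_le_right _ Z') le_rfl).trans
        (commutator_self_eq_bot hZ'comm).le))
  have hZB : ⁅Z, B₀⁆ ≤ B₀ ⊓ centralizer (B₀ : Set G) := by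
    rw [← hmapC, Subgroup.commutator_comm, ← hZ'map, hB₀, ← map_commutator]
    exact map_mono hZtest
  have hZgg : ∀ g ∈ B₀, ⁅⁅Z, zpowers g⁆, zpowers g⁆ = ⊥ := fun g hg => by
    refine commutator_eq_bot_iff_le_centralizer.mpr ?_
    exact ((commutator_mono le_rfl (zpowers_le.mpr hg)).trans hZB).trans
      (inf_le_right.trans (centralizer_le (SetLike.coe_subset_coe.mpr (zpowers_le.mpr hg))))
  have hBP : B₀ ≤ P := map_subtype_le B
  by_cases hzb : B₀ ⊓ centralizer (B₀ : Set G) ≤ T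
  swap
  · -- an element of `Z(B)` outside `T`
    obtain ⟨g, hg, hgT⟩ := SetLike.not_le_iff_exists.mp hzb
    have hq : Cfsg.iterCommutator A (zpowers g) 2 ≤ Z := by
      refine le_trans ?_ (bot_le : (⊥ : Subgroup G) ≤ Z)
      refine le_of_eq (commutator_eq_bot_iff_le_centralizer.mpr ?_)
      refine ((commutator_mono le_rfl (zpowers_le.mpr hg.1)).trans hAB).trans ?_
      exact le_centralizer_iff.mp (zpowers_le.mpr hg.2)
    exact ⟨g, hBP hg.1, hgT, (hquad g hq).1, hZgg g hg.1, Or.inr (hquad g hq).2⟩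
  have hcubic : ∀ g ∈ B₀, Cfsg.iterCommutator A (zpowers g) 3 ≤ Z := fun g hg => by
    have hgle : zpowers g ≤ B₀ := zpowers_le.mpr hg
    refine le_trans ?_ (bot_le : (⊥ : Subgroup G) ≤ Z)
    change ⁅⁅⁅A, zpowers g⁆, zpowers g⁆, zpowers g⁆ ≤ ⊥
    refine (commutator_mono (commutator_mono (commutator_mono le_rfl hgle) hgle) hgle).trans
      ((commutator_mono (commutator_mono hAB le_rfl) le_rfl).trans ?_)
    exact (commutator_eq_bot_iff_le_centralizer.mpr hB2).le
  by_cases hnontriv : ∃ b ∈ B₀, b ∉ T ∧ ∃ U V, Cfsg.IsChiefFactor U V ∧ U ≤ Z ∧ ¬ TrivOn b U V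
  · obtain ⟨b, hb, hbT, hUV⟩ := hnontriv
    exact ⟨b, hBP hb, hbT, hcubic b hb, hZgg b hb, Or.inl hUV⟩
  push Not at hnontriv
  obtain ⟨g, hg, hgT⟩ := SetLike.not_le_iff_exists.mp hBT
  refine ⟨g, hBP hg, hgT, hcubic g hg, hZgg g hg, Or.inr fun U V hUV hZV hUA => ?_⟩
  have hT0 : IsPGroup p T := Core.pCore_isPGroup
  have htriv : ∀ b ∈ B₀, ∀ U V, Cfsg.IsChiefFactor U V → U ≤ Z → TrivOn b U V := by
    intro b hb U V hUV hU
    by_cases hbT : b ∈ T
    · have := hUV.2.2.1
      intro u hu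
      have h1 := le_centralizer_of_chief hT0 ((hU.trans hZA).trans hAT) hUV
        (mem_map_of_mem _ hbT)
      have h2 := mem_centralizer_iff.mp h1 (QuotientGroup.mk' V u) (mem_map_of_mem _ hu)
      refine (QuotientGroup.eq_one_iff _).mp (show QuotientGroup.mk' V ⁅b, u⁆ = 1 from ?_)
      rw [map_commutatorElement, commutatorElement_eq_one_iff_mul_comm]
      exact h2.symm
    · exact hnontriv b hb hbT U V hUV hU
  refine quadratic_above (B := B₀) (hT0.to_le (hZA.trans hAT)) hAA hZC hAB hB2 ?_ htriv hg hUV hZV hUA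
  -- `rad A B` is a test subgroup for `B`
  set R := rad A B₀ with hRdef
  have hRP : R ≤ P := (rad_le A B₀).trans hAP
  set R' := R.subgroupOf P with hR'def
  have hR'map : R'.map P.subtype = R := map_subgroupOf_eq_of_le hRP
  have hRR : ⁅R, R⁆ ≤ centralizer (B₀ : Set G) := commutator_le.mpr fun x hx y hy =>
    ((mem_rad (hAA.trans hZC)).mp hx).2 y (rad_le A B₀ hy)
  have hRA : R' ≤ A' := fun x hx => rad_le A B₀ hx
  have hBN : B ≤ normalizer (R' : Set P) := by
    refine (map_le_normalizer_map_iff hsub).mp ?_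
    rw [hR'map]
    intro d hd
    refine Control.mem_normalizer_of_cjSub_eq (eq_of_le_of_card_ge ?_ (Control.card_cjSub d _).ge)
    rintro _ ⟨x, hx, rfl⟩
    obtain ⟨hxA, hxc⟩ := (mem_rad (hAA.trans hZC)).mp hx
    refine (mem_rad (hAA.trans hZC)).mpr ⟨(‹A.Normal›).conj_mem x hxA d, fun y hy => ?_⟩
    have hy' : d⁻¹ * y * d ∈ A := by simpa using (‹A.Normal›).conj_mem y hy d⁻¹
    have h2 := hxc _ hy'
    have h3 : d * ⁅x, d⁻¹ * y * d⁆ * d⁻¹ = ⁅x, d⁻¹ * y * d⁆ := by
      rw [mem_centralizer_iff.mp h2 d hd, mul_inv_cancel_right]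
    change ⁅d * x * d⁻¹, y⁆ ∈ _
    have h4 : ⁅d * x * d⁻¹, y⁆ = d * ⁅x, d⁻¹ * y * d⁆ * d⁻¹ := by
      simp only [commutatorElement_def]; group
    rw [h4, h3]; exact h2
  have htest := hB.2.2 R' ((map_classTwo hsub).mp (by
      rw [hR'map]
      exact (commutator_mono (rad_le _ _) (rad_le _ _)).trans
        ((hAA.trans hZC).trans (centralizer_le (SetLike.coe_subset_coe.mpr (rad_le _ _))))))
    (hRA.trans hAO) hBN
    ((map_eq_bot_iff_of_injective _ hsub).mp (by
      rw [map_commutator, map_commutator, hR'map, Subgroup.commutator_comm]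
      exact commutator_eq_bot_iff_le_centralizer.mpr hRR))
    ((map_eq_bot_iff_of_injective _ hsub).mp (by
      rw [map_commutator, map_commutator, hR'map, hmapC]
      refine le_bot_iff.mp ((commutator_mono (commutator_mono hzb (rad_le A B₀)) (rad_le A B₀)).trans ?_)
      exact (commutator_mono hTA le_rfl).trans hZZ.le))
  rw [← hR'map, hB₀, ← map_commutator]
  exact (map_mono htest).trans (hmapC.le.trans inf_le_right)

end key

/-- A quadratic nontrivial chief factor when a K-infinity subgroup is not normal. -/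
theorem exists_quadratic (S : Subgroup G) (hTS : Cfsg.pCore p G ≤ S)
    (hC : centralizer (Cfsg.pCore p G : Set G) ≤ Cfsg.pCore p G)
    (hK : ¬ (Cfsg.inducedFunctor Cfsg.kInfLower S).Normal) :
    ∃ (N : Subgroup G) (_ : N.Normal), ¬ Cfsg.IsNormalizerPStable p (G ⧸ N) := by
  obtain ⟨A, hAT, hAn, -, hTA, -, hA5⟩ := exists_critical_pCore (G := G) (p := p)
  set Z := A ⊓ centralizer (A : Set G) with hZ
  obtain ⟨g, -, hgT, -, hZgg, hor⟩ := exists_cubic S hTS A Z hAT hZ hTA (Or.inl hK)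
  obtain ⟨U, V, hUV, hUA, hq, hn⟩ := exists_quadratic_factor hAT inf_le_left hA5 hC hgT hZgg hor
  obtain ⟨-, -, hVn, -⟩ := id hUV
  exact ⟨V, hVn, not_isNormalizerPStable_of_chief hUV (Core.pCore_isPGroup.to_le (hUA.trans hAT)) hq hn⟩

end Cfsg.Agent.KInfGen
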